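import Mathlib.GroupTheory.GroupAction.Primitive
import Cfsg.Agent.Coprime.SchurZassenhaus
import Cfsg.Agent.Coprime.PTimesQ
import Cfsg.Agent.Solvable.Basic

/-!
Core-free maximal subgroups and minimal normal subgroups (Baer), and conjugacy of core-free
maximal subgroups of solvable groups.
-/

open Pointwise

namespace CfsgLib.CoreFree

variable {G : Type*} [Group G]

theorem sup_eq_top {U N : Subgroup G} [N.Normal] (hU : IsCoatom U) (hcore : U.normalCore = ⊥)
    (hN : N ≠ ⊥) : N ⊔ U = ⊤ :=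
  hU.2 _ (right_lt_sup.mpr fun h => hN (le_bot_iff.mp (hcore ▸ (Subgroup.normal_le_normalCore.mpr h))))

/-- A subgroup of `U` normalised by `U` and centralised by `N` is trivial. -/
theorem centralizer_inf_eq_bot {U N : Subgroup G} [N.Normal] (hU : IsCoatom U)
    (hcore : U.normalCore = ⊥) (hN : N ≠ ⊥) :
    Subgroup.centralizer (N : Set G) ⊓ U = ⊥ := by
  set W := Subgroup.centralizer (N : Set G) ⊓ U
  have hWn : W.Normal := by
    rw [← Subgroup.normalizer_eq_top_iff, ← top_le_iff, ← sup_eq_top hU hcore hN]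
    refine sup_le ?_ ?_
    · exact (Subgroup.le_centralizer_iff.mp inf_le_left).trans (Subgroup.centralizer_le_normalizer _)
    · exact (le_inf Subgroup.le_normalizer_of_normal Subgroup.le_normalizer).trans
        Subgroup.inf_normalizer_le_normalizer_inf
  exact le_bot_iff.mp (hcore ▸ Subgroup.normal_le_normalCore.mpr (inf_le_right (a := Subgroup.centralizer (N : Set G))))

/-- The centraliser of a nontrivial normal subgroup is trivial or minimal normal. -/
theorem centralizer_minimal {U N : Subgroup G} [N.Normal] (hU : IsCoatom U)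
    (hcore : U.normalCore = ⊥) (hN : N ≠ ⊥) {K : Subgroup G} (hK : K.Normal)
    (hKC : K ≤ Subgroup.centralizer (N : Set G)) :
    K = ⊥ ∨ K = Subgroup.centralizer (N : Set G) := by
  refine or_iff_not_imp_left.mpr fun hne => le_antisymm hKC fun c hc => ?_
  have hc' : c ∈ ((K ⊔ U : Subgroup G) : Set G) := by
    rw [sup_eq_top hU hcore hne]; trivial
  rw [Subgroup.normal_mul] at hc'
  obtain ⟨k, hk, u, hu, rfl⟩ := hc'
  have h1 : u ∈ Subgroup.centralizer (N : Set G) ⊓ U := Subgroup.mem_inf.mpr ⟨by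
    have := mul_mem (inv_mem (hKC hk)) hc
    simpa using this, hu⟩
  rw [centralizer_inf_eq_bot hU hcore hN, Subgroup.mem_bot] at h1
  simpa [h1] using hk

theorem isComplement'_of_le_centralizer {U N M : Subgroup G} [N.Normal] [M.Normal]
    (hU : IsCoatom U) (hcore : U.normalCore = ⊥) (hN : N ≠ ⊥) (hM : M ≠ ⊥)
    (hle : M ≤ Subgroup.centralizer (N : Set G)) : Subgroup.IsComplement' M U := by
  refine Subgroup.isComplement'_of_disjoint_and_mul_eq_univ ?_
    (by rw [← Subgroup.normal_mul, sup_eq_top hU hcore hM, Subgroup.coe_top])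
  rw [disjoint_iff, eq_bot_iff, ← centralizer_inf_eq_bot hU hcore hN]
  exact inf_le_inf hle le_rfl

theorem isComplement'_of_abelian {U N : Subgroup G} [N.Normal] [IsMulCommutative N]
    (hU : IsCoatom U) (hcore : U.normalCore = ⊥) (hN : N ≠ ⊥) : Subgroup.IsComplement' N U :=
  isComplement'_of_le_centralizer hU hcore hN hN fun x hx =>
    Subgroup.mem_centralizer_iff.mpr fun _ hy => setLike_mul_comm (s := N) hy hx

theorem centralizer_eq_self {U N : Subgroup G} [N.Normal] [IsMulCommutative N]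
    (hU : IsCoatom U) (hcore : U.normalCore = ⊥) (hN : N ≠ ⊥) :
    Subgroup.centralizer (N : Set G) = N :=
  ((centralizer_minimal hU hcore hN (inferInstance : N.Normal) fun x hx =>
    Subgroup.mem_centralizer_iff.mpr fun _ hy => setLike_mul_comm (s := N) hy hx).resolve_left hN).symm

/-- The image of `(A ⊔ B) ⊓ U` modulo `B` is that of `A`. -/
theorem map_sup_inf_eq {U A B : Subgroup G} [A.Normal] [B.Normal] (hB : U ⊔ B = ⊤) :
    ((A ⊔ B) ⊓ U).map (QuotientGroup.mk' B) = A.map (QuotientGroup.mk' B) := by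
  rw [Subgroup.map_eq_map_iff, QuotientGroup.ker_mk']
  refine le_antisymm (sup_le inf_le_left le_sup_right) (sup_le ?_ le_sup_right)
  intro a ha
  have h : a ∈ ((B ⊔ U : Subgroup G) : Set G) := by rw [sup_comm, hB]; trivial
  rw [Subgroup.normal_mul] at h
  obtain ⟨b, hb, u, hu, rfl⟩ := h
  refine mul_mem (Subgroup.mem_sup_right hb) (Subgroup.mem_sup_left (Subgroup.mem_inf.mpr ⟨?_, hu⟩))
  have := Subgroup.mul_mem_sup ha (B.inv_mem hb)
  have h2 : u = b⁻¹ * (b * u) := by group
  rw [h2]
  exact mul_mem (Subgroup.mem_sup_right (B.inv_mem hb)) (Subgroup.mem_sup_left ha)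

theorem nonempty_mulEquiv {U A B : Subgroup G} [A.Normal] [B.Normal] (hB : U ⊔ B = ⊤)
    (hAB : A ⊓ B = ⊥) (hUB : U ⊓ B = ⊥) : Nonempty (A ≃* ↥((A ⊔ B) ⊓ U)) := by
  set f := QuotientGroup.mk' B with hf
  have hinj : ∀ L : Subgroup G, L ⊓ B = ⊥ → Function.Injective (f.subgroupMap L) := by
    intro L hL
    refine (injective_iff_map_eq_one _).mpr fun x hx => ?_
    have h1 : (x : G) ∈ L ⊓ B := Subgroup.mem_inf.mpr
      ⟨x.2, (QuotientGroup.eq_one_iff _).mp (congrArg Subtype.val hx)⟩
    rw [hL, Subgroup.mem_bot] at h1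
    exact Subtype.ext h1
  refine ⟨(MulEquiv.ofBijective _ ⟨hinj A hAB, f.subgroupMap_surjective A⟩).trans
    ((MulEquiv.subgroupCongr (map_sup_inf_eq hB).symm).trans
      (MulEquiv.ofBijective _ ⟨hinj ((A ⊔ B) ⊓ U) ?_, f.subgroupMap_surjective _⟩).symm)⟩
  exact le_bot_iff.mp (hUB ▸ inf_le_inf inf_le_right le_rfl)

theorem normalizer_eq_of_le {U W : Subgroup G} (hU : IsCoatom U) (hcore : U.normalCore = ⊥)
    (hWU : W ≤ U) (hne : W ≠ ⊥) (hn : U ≤ Subgroup.normalizer (W : Set G)) :
    Subgroup.normalizer (W : Set G) = U := by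
  rcases hn.eq_or_lt with h | h
  · exact h.symm
  · have := hU.2 _ h
    rw [Subgroup.normalizer_eq_top_iff] at this
    exact absurd (le_bot_iff.mp (hcore ▸ Subgroup.normal_le_normalCore.mpr hWU)) hne

theorem mem_normalizer_conj_smul {g x : G} {W : Subgroup G}
    (hx : x ∈ Subgroup.normalizer (W : Set G)) :
    g * x * g⁻¹ ∈ Subgroup.normalizer ((MulAut.conj g • W : Subgroup G) : Set G) := by
  rw [Solvable.mem_normalizer_iff_conj_smul] at hx ⊢
  rw [← mul_smul, ← map_mul, show g * x * g⁻¹ * g = g * x by group, map_mul, mul_smul, hx]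

/-- Core-free maximal subgroups of a finite solvable group are conjugate. -/
theorem exists_conj_eq [Finite G] [Group.IsSolvable G] {U V : Subgroup G} (hU : IsCoatom U)
    (hV : IsCoatom V) (hUc : U.normalCore = ⊥) (hVc : V.normalCore = ⊥) :
    ∃ g : G, MulAut.conj g • U = V := by
  have : Nontrivial G := by
    by_contra h
    have : Subsingleton G := not_nontrivial_iff_subsingleton.mp h
    exact hU.1 (Subsingleton.elim _ _)
  obtain ⟨N, hN, hne, hmin⟩ := Solvable.exists_minimal_normal (G := G)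
  have := Solvable.isMulCommutative_of_minimal_normal hne hmin
  have hcU := isComplement'_of_abelian hU hUc hne
  have hcV := isComplement'_of_abelian hV hVc hne
  rcases eq_or_ne N ⊤ with rfl | htop
  · rw [Subgroup.isComplement'_top_left] at hcU hcV
    exact ⟨1, by rw [map_one, one_smul, hcU, hcV]⟩
  have : Nontrivial (G ⧸ N) := QuotientGroup.nontrivial_iff.mpr htop
  obtain ⟨Lq, hLqn, hLqne, hLqmin⟩ := Solvable.exists_minimal_normal (G := G ⧸ N)
  set f := QuotientGroup.mk' N
  set L := Lq.comap f with hLdef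
  have hLn : L.Normal := hLqn.comap f
  have hNL : N ≤ L := by
    have := f.ker_le_comap Lq
    rwa [QuotientGroup.ker_mk'] at this
  have hLN : L ≠ N := fun h => hLqne (by
    rw [← Subgroup.map_comap_eq_self_of_surjective (QuotientGroup.mk'_surjective N) Lq, ← hLdef, h,
      QuotientGroup.map_mk'_self])
  obtain ⟨p, hp, hexp⟩ := Solvable.exists_prime_pow_eq_one_of_minimal_normal hne hmin
  obtain ⟨q, hq, hLqp⟩ := Solvable.exists_isPGroup_of_minimal_normal hLqne hLqmin
  have := Fact.mk hp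
  have := Fact.mk hq
  have hNp : IsPGroup p N := fun x => ⟨1, Subtype.ext (by simpa using hexp _ x.2)⟩
  -- the two subgroups `U ∩ L`, `V ∩ L`
  have hpart : ∀ W : Subgroup G, N.IsComplement' W →
      N ⊔ (W ⊓ L) = L ∧ N ⊓ (W ⊓ L) = ⊥ ∧ Nat.card ↥(W ⊓ L) = Nat.card Lq := by
    intro W hW
    have h1 : N ⊔ (W ⊓ L) = L := by
      rw [← Coprime.sup_inf_eq_sup_inf_of_le Subgroup.le_normalizer_of_normal hNL, hW.sup_eq_top,
        top_inf_eq]
    have h2 : N ⊓ (W ⊓ L) = ⊥ :=
      le_bot_iff.mp ((inf_le_inf le_rfl inf_le_left).trans (disjoint_iff.mp hW.disjoint).le)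
    refine ⟨h1, h2, ?_⟩
    have h3 : (W ⊓ L).map f = Lq := by
      rw [← Subgroup.map_comap_eq_self_of_surjective (QuotientGroup.mk'_surjective N) Lq, ← hLdef]
      conv_rhs => rw [← h1, Subgroup.map_sup, QuotientGroup.map_mk'_self, bot_sup_eq]
    rw [← Solvable.card_map_mk'_of_disjoint N (W ⊓ L) (disjoint_iff.mpr (by rwa [inf_comm])), h3]
  obtain ⟨hU1, hU2, hU3⟩ := hpart U hcU
  obtain ⟨hV1, hV2, hV3⟩ := hpart V hcV
  have hqp : q ≠ p := by
    rintro rfl
    have hLp : IsPGroup q L := hLqp.comap_of_ker_isPGroup f (by rwa [QuotientGroup.ker_mk'])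
    -- then `L` centralises `N`
    have hLC : L ≤ Subgroup.centralizer (N : Set G) := by
      have hlt := Coprime.commutator_lt_of_isPGroup hNp hLp Subgroup.le_normalizer_of_normal hne
      rw [Subgroup.le_centralizer_iff, ← Subgroup.commutator_eq_bot_iff_le_centralizer]
      exact (hmin _ inferInstance hlt.le).resolve_right hlt.ne
    rw [centralizer_eq_self hU hUc hne] at hLC
    exact hLN (le_antisymm hLC hNL)
  have hcop : (Nat.card N).Coprime (Nat.card ↥(U ⊓ L)) := by
    obtain ⟨a, ha⟩ := hNp.exists_card_eq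
    obtain ⟨b, hb⟩ := hLqp.exists_card_eq
    rw [ha, hU3, hb]
    exact Nat.Coprime.pow a b ((Nat.coprime_primes hp hq).mpr hqp.symm)
  obtain ⟨x, -, hxeq⟩ := Coprime.exists_conj_eq_of_sup_eq
    (Subgroup.le_normalizer_of_normal (K := U ⊓ L))
    (Subgroup.le_normalizer_of_normal (K := V ⊓ L)) hcop (hV3.trans hU3.symm)
    (hU1.trans hV1.symm) (Or.inl inferInstance)
  have hWne : ∀ W : Subgroup G, N ⊔ (W ⊓ L) = L → W ⊓ L ≠ ⊥ := fun W h hb => hLN (by
    rw [← h, hb, sup_bot_eq])
  have hnorm : ∀ W : Subgroup G, W ≤ Subgroup.normalizer ((W ⊓ L : Subgroup G) : Set G) :=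
    fun W => (le_inf Subgroup.le_normalizer Subgroup.le_normalizer_of_normal).trans
      Subgroup.inf_normalizer_le_normalizer_inf
  have hUN := normalizer_eq_of_le hU hUc inf_le_left (hWne U hU1) (hnorm U)
  have hVN := normalizer_eq_of_le hV hVc inf_le_left (hWne V hV1) (hnorm V)
  refine ⟨x, le_antisymm ?_ ?_⟩
  · intro y hy
    rw [Solvable.mem_conj_smul, ← hUN] at hy
    rw [← hVN, ← hxeq]
    have := mem_normalizer_conj_smul (g := x) hy
    simpa [mul_assoc] using this
  · intro y hy
    rw [← hVN, ← hxeq] at hy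
    rw [Solvable.mem_conj_smul, ← hUN]
    have := mem_normalizer_conj_smul (g := x⁻¹) hy
    rwa [← mul_smul, ← map_mul, inv_mul_cancel, map_one, one_smul, inv_inv] at this

/-- The point stabilisers of a faithful primitive action are core-free maximal subgroups. -/
theorem stabilizer_isCoatom_and_corefree {Ω : Type*} [MulAction G Ω] [FaithfulSMul G Ω]
    (hprim : MulAction.IsPreprimitive G Ω) [Nontrivial G] (ω : Ω) :
    IsCoatom (MulAction.stabilizer G ω) ∧ (MulAction.stabilizer G ω).normalCore = ⊥ := by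
  have hcore : (MulAction.stabilizer G ω).normalCore = ⊥ := by
    rw [eq_bot_iff]
    intro g hg
    rw [Subgroup.mem_bot]
    refine eq_of_smul_eq_smul (α := Ω) fun ω' => ?_
    obtain ⟨h, rfl⟩ := MulAction.exists_smul_eq G ω ω'
    have h1 : h⁻¹ * g * h ∈ MulAction.stabilizer G ω := by
      have := hg h⁻¹
      simpa using this
    rw [MulAction.mem_stabilizer_iff, mul_smul, mul_smul, inv_smul_eq_iff] at h1
    rw [one_smul, h1]
  have : Nontrivial Ω := by
    by_contra h
    have : Subsingleton Ω := not_nontrivial_iff_subsingleton.mp h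
    obtain ⟨a, b, hab⟩ := exists_pair_ne G
    exact hab (eq_of_smul_eq_smul (α := Ω) fun _ => Subsingleton.elim _ _)
  haveI := hprim
  exact ⟨MulAction.IsPreprimitive.isCoatom_stabilizer_of_isPreprimitive (G := G) ω, hcore⟩

end CfsgLib.CoreFree
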